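import Cfsg.Agent.H778.PFX.Base
import Cfsg.Agent.H947.El.Sz
import Cfsg.Agent.H947.El.Ree

/-!
# S3522-EXC (task 3006, helper778): the Suzuki groups and the small Ree groups

* `pg_sz`, `pg_ree` : every proper subgroup misses a prime divisor of the order;
* `row_sz`, `row_ree`.
-/

set_option autoImplicit false
set_option linter.style.haveILetI false

namespace Cfsg.Agent.H778.PFX

open MulAction Subgroup Cfsg Cfsg.Agent.H396 Cfsg.Agent.H394.SqBasic Cfsg.Agent.H947.El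
open Cfsg.Agent.H938.Sax Cfsg.Agent.H997.PF
open Cfsg.Agent.H101.SzAbs Cfsg.Agent.H101.SzGeo Cfsg.Agent.H101.SzAbs.Geo Cfsg.Agent.H101.SzSub

section

variable {F : Type*} [Field F] [Fintype F] {m : ℕ}

/-- **the Suzuki groups** (the proof of helper947, with the primes in the hypothesis) -/
theorem sz_aux (hm : 1 ≤ m) (hF : Fintype.card F = 2 ^ (2 * m + 1)) (M : Subgroup (Cfsg.Sz F m)) (hM : M ≠ ⊤)
    (hall : ∀ p : ℕ, p.Prime → p ∣ Nat.card (Cfsg.Sz F m) → p ∣ Nat.card M) : False := by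
  obtain ⟨q, r, hq, hr, h8, h2q, h2r, hrq, hrr⟩ := num_sz m hm
  have hfin : Finite (Cfsg.Sz F m) := inferInstance
  have hcardG := Cfsg.Agent.S0324.result hm hF
  rw [← hq] at hcardG
  -- the primitive prime
  obtain ⟨ρ, hρ, hρ1, hρ2, hρ3⟩ := Cfsg.Agent.Lib.Zsigmondy.exists_primitive (a := 2) (n := 4 * (2 * m + 1)) le_rfl
    (by omega) (by omega) (by omega)
  have hρq1 : ¬ ρ ∣ q - 1 := by
    intro h
    rw [hq] at h
    have := (hρ1 _).1 h
    have := Nat.le_of_dvd (by omega) this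
    omega
  have hρq : ρ ∣ q ^ 2 + 1 := by
    have h1 : ρ ∣ q ^ 4 - 1 := by
      rw [hq, ← pow_mul]
      exact (hρ1 _).2 (by rw [mul_comm])
    have h2 : q ^ 4 - 1 = (q ^ 2 + 1) * (q ^ 2 - 1) := by
      have : (q ^ 2) ^ 2 - 1 ^ 2 = (q ^ 2 + 1) * (q ^ 2 - 1) := Nat.sq_sub_sq _ _
      rw [← this, ← pow_mul, one_pow]
    rw [h2] at h1
    refine (hρ.dvd_mul.1 h1).resolve_right fun h => ?_
    rw [hq, ← pow_mul] at h
    have := (hρ1 _).1 h
    have := Nat.le_of_dvd (by omega) this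
    omega
  have hρM : ρ ∣ Nat.card M := hall ρ hρ (by rw [hcardG]; exact (hρq.mul_left _).mul_right _)
  have hρodd : ρ ≠ 2 := by rintro rfl; exact hρ3 dvd_rfl
  have : Fact ρ.Prime := ⟨hρ⟩
  obtain ⟨x, hx⟩ := exists_prime_orderOf_dvd_card' (G := M) ρ hρM
  have hxo : orderOf (x : Cfsg.Sz F m) = ρ := by rw [Subgroup.orderOf_coe, hx]
  rcases Cfsg.Agent.S2251.result hm hF M hM with ⟨P0, hP0⟩ | ⟨U, hUc, hUk, hU⟩ | ⟨K, _, _, k, hk1, hkm, hK, hdiv, S, ⟨e⟩, hS⟩
  · -- `M ≤ N(P)`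
    obtain ⟨S, hSP, -⟩ := exists_sylow hm hF (inf F m)
    obtain ⟨g, hg⟩ := exists_smul_eq (Cfsg.Sz F m) P0 S
    have hy : g * (x : Cfsg.Sz F m) * g⁻¹ ∈ Subgroup.normalizer ((S : Subgroup (Cfsg.Sz F m)) : Set (Cfsg.Sz F m)) := by
      rw [← hg, Sylow.coe_subgroup_smul]
      exact conj_mem_normalizer_map g (hP0 x.2)
    rw [hSP] at hy
    have hSne : (S : Subgroup (Cfsg.Sz F m)) ≠ ⊥ := by
      refine S.ne_bot_of_dvd_card ?_
      rw [hcardG]
      exact ((h2q.pow (by norm_num)).mul_right _).mul_right _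
    obtain ⟨t, ht⟩ := Subgroup.ne_bot_iff_exists_ne_one.1 hSne
    have ht1 : (t : Cfsg.Sz F m) ≠ 1 := fun h => ht (Subtype.ext h)
    have htP : (t : Cfsg.Sz F m) ∈ P hF (inf F m) := by rw [← hSP]; exact t.2
    set y := g * (x : Cfsg.Sz F m) * g⁻¹ with hyd
    have h1 := (Subgroup.mem_normalizer_iff.1 hy t).1 htP
    have h2 := conj_mem_P hm hF y _ _ htP
    have hne : y * t * y⁻¹ ≠ 1 := by
      intro h
      apply ht1
      calc (t : Cfsg.Sz F m) = y⁻¹ * (y * t * y⁻¹) * y := by group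
        _ = 1 := by rw [h]; group
    have h3 := (geo hm hF).free (inf F m) (y • inf F m) _ h1 ((geo hm hF).le _ _ h2) hne
    have h4 : y ∈ MulAction.stabilizer (Cfsg.Sz F m) (Cfsg.suzukiPointInfinity F) := congrArg Subtype.val h3
    have h5 := Subgroup.orderOf_dvd_natCard _ h4
    rw [Cfsg.Agent.S0329.result hm hF, ← hq] at h5
    have h6 : orderOf y = ρ := by rw [hyd, ← MulAut.conj_apply, MulEquiv.orderOf_eq, hxo]
    rw [h6] at h5
    rcases hρ.dvd_mul.1 h5 with h7 | h7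
    · have h8 := hρ.dvd_of_dvd_pow h7
      rw [hq] at h8
      exact hρodd ((Nat.prime_dvd_prime_iff_eq hρ Nat.prime_two).1 (hρ.dvd_of_dvd_pow h8))
    · exact hρq1 h7
  · -- `M ≤ N(U)`
    have h1 := sz_normalizer hm hF U hUc hUk x (hU x.2) (by rw [hxo]; exact hρ) (by rw [hxo]; exact hρodd)
    rw [hxo] at h1
    rw [← hq, ← hr] at hUk
    rcases hUk with hUk | hUk
    · rw [hUk] at h1
      exact hρq1 h1
    · have hUd : Nat.card U ∣ q ^ 2 + 1 := by
        have e2 : q ^ 2 + 1 = (q + r + 1) * (q - r + 1) := by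
          zify [show r ≤ q by omega]
          have : (r : ℤ) * r = 2 * q := by exact_mod_cast hrr
          linear_combination this
        rw [e2]
        rcases hUk with hUk | hUk
        · rw [hUk]; exact dvd_mul_right _ _
        · rw [Set.mem_singleton_iff] at hUk
          rw [hUk]; exact dvd_mul_left _ _
      obtain ⟨s, hs, hsd⟩ := Nat.exists_prime_and_dvd (n := q - 1) (by omega)
      have hs2 : s ≠ 2 := by
        rintro rfl
        have h2 : 2 ∣ q - (q - 1) := Nat.dvd_sub h2q hsd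
        rw [Nat.sub_sub_self (by omega)] at h2
        omega
      have : Fact s.Prime := ⟨hs⟩
      obtain ⟨z, hz⟩ := exists_prime_orderOf_dvd_card' (G := M) s
        (hall s hs (by rw [hcardG]; exact hsd.mul_left _))
      have hzo : orderOf (z : Cfsg.Sz F m) = s := by rw [Subgroup.orderOf_coe, hz]
      have h2 := sz_normalizer hm hF U hUc (by
        rw [← hq, ← hr]; exact Or.inr hUk) z (hU z.2) (by rw [hzo]; exact hs) (by rw [hzo]; exact hs2)
      rw [hzo] at h2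
      have h3 := h2.trans hUd
      have h4 : q ^ 2 + 1 = (q - 1) * (q + 1) + 2 := by
        obtain ⟨t, rfl⟩ : ∃ t, q = t + 1 := ⟨q - 1, by omega⟩
        rw [Nat.add_sub_cancel]; ring
      rw [h4] at h3
      exact hs2 ((Nat.prime_dvd_prime_iff_eq hs Nat.prime_two).1 ((Nat.dvd_add_right (hsd.mul_right _)).1 h3))
  · -- a smaller Suzuki group
    have h1 : ρ ∣ Nat.card S := hρM.trans (Subgroup.card_dvd_of_le hS)
    rw [Nat.card_congr e.toEquiv, Cfsg.Agent.S0324.result hk1 hK] at h1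
    obtain ⟨s, hs⟩ : ∃ s, s = 2 ^ (2 * k + 1) := ⟨_, rfl⟩
    rw [← hs] at h1
    have h2 : ρ ∣ s ^ 4 - 1 := by
      have e2 : s ^ 4 - 1 = (s ^ 2 + 1) * ((s - 1) * (s + 1)) := by
        have h3 : (s ^ 2) ^ 2 - 1 ^ 2 = (s ^ 2 + 1) * (s ^ 2 - 1) := Nat.sq_sub_sq _ _
        have h4 : s ^ 2 - 1 ^ 2 = (s + 1) * (s - 1) := Nat.sq_sub_sq _ _
        rw [one_pow] at h3 h4
        rw [h4, mul_comm (s + 1)] at h3
        rw [← h3, ← pow_mul]
      rw [e2]
      rcases hρ.dvd_mul.1 h1 with h3 | h3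
      · rcases hρ.dvd_mul.1 h3 with h4 | h4
        · have h5 := hρ.dvd_of_dvd_pow h4
          rw [hs] at h5
          exact absurd ((Nat.prime_dvd_prime_iff_eq hρ Nat.prime_two).1 (hρ.dvd_of_dvd_pow h5)) hρodd
        · exact h4.mul_right _
      · exact (h3.mul_right _).mul_left _
    rw [hs, ← pow_mul] at h2
    have h3 := (hρ1 _).1 h2
    have := Nat.le_of_dvd (by omega) h3
    omega

end

/-- **the Suzuki groups** -/
theorem pg_sz {T : Type*} [Group T] (h : Cfsg.Lie.IsoSuzuki T) : PG T := by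
  obtain ⟨F, iF, iF', m, hm, hF, ⟨e⟩⟩ := h
  obtain ⟨f⟩ := Cfsg.Agent.OddCyclic.ClaimC.SzIso.iso hm hF
  refine PG.congr (f.trans e.symm) (PG.of_full fun R hR => ?_)
  by_contra hn
  exact sz_aux hm hF R hn hR

/-- **the Ree groups** -/
theorem pg_ree {T : Type*} [Group T] (h : Cfsg.Lie.IsoRee T) : PG T := by
  obtain ⟨K, iK, iK', m, hm, hK, ⟨e⟩⟩ := h
  obtain ⟨ρ, n⟩ := exists_reeN m hm
  have F := reeF hm hK n
  have hfin : Finite ↥(Cfsg.Lie.twistedG2 K (3 ^ m)) := inferInstance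
  exact PG.congr e.symm (PG.of_full fun R hR => F.eq_top n R hR)

theorem row_sz {T : Type*} [Group T] (h : Cfsg.Lie.IsoSuzuki T) : Row T := (pg_sz h).row

theorem row_ree {T : Type*} [Group T] (h : Cfsg.Lie.IsoRee T) : Row T := (pg_ree h).row

end Cfsg.Agent.H778.PFX
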