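import Cfsg.Agent.H778.PFX.Base
import Cfsg.Agent.H997.PF.OutPart
import Cfsg.Agent.H834.Sax.GTwo
import Cfsg.Agent.H604.Sax.Tits
import Cfsg.Agent.S2121

/-!
# S3522-EXC (task 3006, helper778): the Tits group, `G₂(3)`, `G₂(4)`

* `row_tits` : proper subgroups of the Tits group miss a prime or have order dividing `23400`;
* `row_g23` : proper subgroups of `G₂(3)` miss a prime or have order `1092`;
* `pg_g24`, `row_g24`.
-/

set_option autoImplicit false

namespace Cfsg.Agent.H778.PFX

open Subgroup Cfsg Cfsg.Lie Cfsg.Agent.OrdDiv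
open Cfsg.Agent.H938.Sax Cfsg.Agent.H997.PF

universe u

/-- `G₂(3)`: a proper subgroup misses a prime or has order `1092` -/
theorem pgap_g23 (tab : OrderTable.{0}) (hK : ∀ (X : Type) [Group X] [Finite X] [IsSimpleGroup X], Cfsg.IsKnownSimple' X)
    {T : Type u} [Group T] {F : Type} [Field F] [Fintype F] (hF : Fintype.card F = 3) (e : T ≃* chevG2.group F)
    (M : Subgroup T) (hM : M ≠ ⊤) : PGap T M ∨ Nat.card M = 1092 := by
  rcases H834.Sax.pgap_g23 tab hK hF _ (comap_ne_top e.symm hM) with h | h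
  · exact Or.inl (h.congr e.symm)
  · right
    rwa [card_comap] at h

theorem row_g23 (tab : OrderTable.{0}) (hK : ∀ (X : Type) [Group X] [Finite X] [IsSimpleGroup X], Cfsg.IsKnownSimple' X)
    {F : Type} [Field F] [Fintype F] (hF : Fintype.card F = 3) : Row (chevG2.group F) := by
  have hcard := H834.Sax.card_g23 hF
  have hfin : Finite ↥(chevG2.group F) := Nat.finite_of_card_ne_zero (by rw [hcard]; norm_num)
  have := Fact.mk Nat.prime_three
  have : CharP F 3 := H364.OutLie.charP_of_card (f := 1) Nat.prime_three le_rfl (by rw [hF, pow_one])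
  have ho := Cfsg.Agent.S2121.result (F := F) 3 1 (by rw [hF, pow_one]) (by norm_num)
  refine kill_dvd_two (by rw [ho]; norm_num) fun K hK' => ?_
  rcases H834.Sax.pgap_g23 tab hK hF K hK' with h | h
  · exact .pgap h
  · refine .num_one (v := 3) (k := 6) (l := 1) Nat.prime_three (by rw [hcard]; norm_num) (by rw [h]; norm_num)
      (by norm_num)

/-- `G₂(4)` -/
theorem pg_g24 (tab : OrderTable.{0}) (hK : ∀ (X : Type) [Group X] [Finite X] [IsSimpleGroup X], Cfsg.IsKnownSimple' X)
    {F : Type} [Field F] [Fintype F] (hF : Fintype.card F = 4) : PG (chevG2.group F) := fun K hK' =>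
  H834.Sax.pgap_g24 tab hK hF K hK'

/-- the Tits group: a proper subgroup misses a prime or has order dividing `23400` -/
theorem pgap_tits_zero (tab : OrderTable.{0})
    (hK : ∀ (X : Type) [Group X] [Finite X] [IsSimpleGroup X], Cfsg.IsKnownSimple' X) {T : Type} [Group T]
    (h : Lie.IsoTits T) (R : Subgroup T) (hR : R ≠ ⊤) : PGap T R ∨ Nat.card R ∣ 23400 := by
  have hc : Nat.card T = 17971200 := NotCT.Orders.tits h
  have hfin : Finite T := Nat.finite_of_card_ne_zero (by rw [hc]; norm_num)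
  by_cases hf : ∀ p : ℕ, p.Prime → p ∣ 17971200 → p ∣ Nat.card R
  · right
    obtain ⟨O, _, N, hN, hO, hi, F, _, _, hF, ⟨e⟩⟩ := H604.Sax.full_tits tab hK h hR hf
    have h1 : Nat.card N = 7800 := by
      rw [Nat.card_congr e.toEquiv]
      have h2 := Cfsg.Agent.ClassicalGeometry.PSL2Basic.card_PSL2_gcd (F := F)
      rw [hF] at h2
      norm_num at h2
      omega
    rw [O.card_eq_card_quotient_mul_card_subgroup, hO, mul_one, ← N.card_mul_index, h1]
    exact Nat.mul_dvd_mul_left 7800 hi
  · left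
    push Not at hf
    obtain ⟨p, hp, h1, h2⟩ := hf
    exact ⟨p, hp, by rwa [hc], h2⟩

theorem pgap_or_congr {T : Type*} {S : Type*} [Group T] [Group S] (e : S ≃* T) {n : ℕ}
    (h : ∀ R : Subgroup T, R ≠ ⊤ → PGap T R ∨ Nat.card R ∣ n) (R : Subgroup S) (hR : R ≠ ⊤) :
    PGap S R ∨ Nat.card R ∣ n := by
  rcases h _ (comap_ne_top e.symm hR) with h | h
  · exact Or.inl (h.congr e.symm)
  · right
    rwa [card_comap] at h

theorem pgap_tits (tab : OrderTable.{0})
    (hK : ∀ (X : Type) [Group X] [Finite X] [IsSimpleGroup X], Cfsg.IsKnownSimple' X) {T : Type u} [Group T]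
    (h : Lie.IsoTits T) (R : Subgroup T) (hR : R ≠ ⊤) : PGap T R ∨ Nat.card R ∣ 23400 := by
  obtain ⟨e⟩ := h
  have h0 : Lie.IsoTits Lie.TitsGroup := ⟨MulEquiv.refl Lie.TitsGroup⟩
  exact @pgap_or_congr Lie.TitsGroup T inferInstance inferInstance e 23400 (pgap_tits_zero tab hK h0) R hR

theorem row_tits (tab : OrderTable.{0})
    (hK : ∀ (X : Type) [Group X] [Finite X] [IsSimpleGroup X], Cfsg.IsKnownSimple' X) {T : Type u} [Group T]
    (h : Lie.IsoTits T) : Row T := by
  have hc : Nat.card T = 17971200 := NotCT.Orders.tits h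
  refine kill_dvd_two (OutPart.card_out_tits h) fun K hK' => ?_
  rcases pgap_tits tab hK h K hK' with h1 | h1
  · exact .pgap h1
  · refine .num_one (v := 2) (k := 11) (l := 3) Nat.prime_two (by rw [hc]; norm_num) (fun h2 => ?_) (by norm_num)
    have h3 := h2.trans h1
    norm_num at h3

end Cfsg.Agent.H778.PFX
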